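import Cfsg.Agent.H107.NB.OrthTor
import Cfsg.Agent.ClassicalGeometry.PSL2Basic

/-!
# S5003: orthogonal groups, `p ∣ q ^ 2 - 1`: the element of order `p`

* `exists_trace`: `c : F` with `c ^ 2 ≠ 4` such that `g ^ p = 1` whenever `g ^ 2 = c g - 1` in an `F`-algebra;
* `nb_dvd`: `NB p (POmega F Q)`, `7 ≤ dim`, `p ∣ q ^ 2 - 1`, from the induction hypothesis.
-/

set_option autoImplicit false
set_option linter.unusedSectionVars false

namespace Cfsg.Agent.H107.NB.OrthPlane

open QuadraticMap Cfsg Matrix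
open Cfsg.Agent.LieClassical.OrthCore Cfsg.Agent.LieClassical.OrthTrans Cfsg.Agent.LieClassical.OrthSimple
open Cfsg.Agent.LieClassical.OrthFinite Cfsg.Agent.GenOrth Cfsg.Agent.TitsThree.KSideO
open Cfsg.Agent.H7.NBp Cfsg.Agent.H718.NBIH

/-- powers of an element with `g ^ 2 = c g - 1` -/
theorem exists_pow {F : Type*} [Field F] (c : F) (n : ℕ) :
    ∃ a b : F, ∀ (g : Matrix (Fin 2) (Fin 2) F), g * g = c • g - 1 → g ^ n = a • g + b • 1 := by
  induction n with
  | zero => exact ⟨0, 1, fun g _ => by rw [pow_zero, zero_smul, zero_add, one_smul]⟩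
  | succ n ih =>
    obtain ⟨a, b, h⟩ := ih
    refine ⟨a * c + b, -a, fun g hg => ?_⟩
    rw [pow_succ, h g hg, add_mul, smul_mul_assoc, smul_mul_assoc, one_mul, hg]
    module

theorem cayley {F : Type*} [Field F] (g : Matrix (Fin 2) (Fin 2) F) (hg : g.det = 1) : g * g = g.trace • g - 1 := by
  rw [Matrix.det_fin_two] at hg
  ext i j
  fin_cases i <;> fin_cases j <;>
  simp only [Matrix.mul_apply, Fin.sum_univ_two, Matrix.sub_apply, Matrix.smul_apply, Matrix.trace_fin_two, smul_eq_mul,
    Fin.zero_eta, Fin.mk_one, Matrix.one_apply_eq, Matrix.one_apply_ne (show (0 : Fin 2) ≠ 1 by decide),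
    Matrix.one_apply_ne (show (1 : Fin 2) ≠ 0 by decide)]
  · linear_combination -hg
  · ring
  · ring
  · linear_combination -hg

theorem pow_unip {R : Type*} [Ring R] {h : R} (hh : (h - 1) * (h - 1) = 0) (n : ℕ) : h ^ n = 1 + n • (h - 1) := by
  induction n with
  | zero => rw [pow_zero, zero_smul, add_zero]
  | succ n ih =>
    have h1 : (h - 1) * h = h - 1 := by
      have : (h - 1) * h = (h - 1) * (h - 1) + (h - 1) := by noncomm_ring
      rw [this, hh, zero_add]
    rw [pow_succ, ih, add_mul, one_mul, smul_mul_assoc, h1, succ_nsmul]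
    abel

/-- the trace of an element of order `p` -/
theorem exists_trace {F : Type*} [Field F] [Fintype F] {p : ℕ} [hp : Fact p.Prime] (h2 : p ≠ 2)
    (hd : p ∣ Fintype.card F ^ 2 - 1) :
    ∃ c : F, 4 - c * c ≠ 0 ∧ ∀ g : Matrix (Fin 2) (Fin 2) F, g * g = c • g - 1 → g ^ p = 1 := by
  classical
  have hpF : (p : F) ≠ 0 := by
    intro h0
    obtain ⟨r, hr⟩ := CharP.exists F
    have : Fact r.Prime := ⟨CharP.char_is_prime F r⟩
    have h1 : r ∣ p := (CharP.cast_eq_zero_iff F r p).1 h0
    have h3 : r = p := (Nat.prime_dvd_prime_iff_eq this.out hp.out).1 h1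
    subst h3
    obtain ⟨n, -, hn⟩ := FiniteField.card F r
    have h4 : r ∣ Fintype.card F ^ 2 := by
      rw [hn, ← pow_mul]
      exact dvd_pow_self r (by have := n.pos; omega)
    have h5 : r ∣ 1 := by
      have h6 : 1 ≤ Fintype.card F ^ 2 := Nat.one_le_pow _ _ Fintype.card_pos
      have h7 := Nat.dvd_sub h4 hd
      rwa [Nat.sub_sub_self h6] at h7
    exact hp.out.one_lt.ne' (Nat.dvd_one.1 h5)
  have hcard : p ∣ Nat.card (Matrix.SpecialLinearGroup (Fin 2) F) := by
    rw [Cfsg.Agent.ClassicalGeometry.PSL2Basic.card_SL2]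
    exact dvd_mul_of_dvd_right hd _
  obtain ⟨g₀, hg₀⟩ := exists_prime_orderOf_dvd_card' p hcard
  obtain ⟨g, hg⟩ : ∃ g : Matrix (Fin 2) (Fin 2) F, g = g₀.1 := ⟨_, rfl⟩
  have hdet : g.det = 1 := by rw [hg]; exact g₀.2
  have hch := cayley g hdet
  have hgp : g ^ p = 1 := by
    have h1 : g₀ ^ p = 1 := by rw [← hg₀]; exact pow_orderOf_eq_one g₀
    have h3 := congrArg Subtype.val h1
    rw [hg]
    simpa using h3
  have hne : g ≠ 1 := by
    intro h1
    have h3 : g₀ = 1 := by
      apply Subtype.ext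
      rw [← hg, h1]
      rfl
    rw [h3, orderOf_one] at hg₀
    exact hp.out.one_lt.ne hg₀
  -- `g` is not scalar
  have hns : ∀ s : F, g ≠ s • 1 := by
    intro s hs
    have h1 : s * s = 1 := by
      rw [hs] at hdet
      rw [Matrix.det_smul, Matrix.det_one, mul_one, Fintype.card_fin, pow_two] at hdet
      exact hdet
    have h3 : s ^ p = 1 := by
      rw [hs, smul_pow, one_pow] at hgp
      have := congrFun (congrFun hgp 0) 0
      simpa using this
    rcases mul_self_eq_one_iff.1 h1 with h | h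
    · rw [h, one_smul] at hs
      exact hne hs
    · rw [h, Odd.neg_one_pow (hp.out.odd_of_ne_two h2)] at h3
      rw [h, h3, one_smul] at hs
      exact hne hs
  refine ⟨g.trace, ?_, ?_⟩
  · intro h4
    obtain ⟨ε, hε, hε2⟩ : ∃ ε : F, ε * ε = 1 ∧ g.trace = 2 * ε := by
      by_cases h20 : (2 : F) = 0
      · refine ⟨1, one_mul 1, ?_⟩
        have h5 : g.trace * g.trace = 0 := by
          have : (4 : F) = 2 * 2 := by norm_num
          rw [this, h20] at h4
          linear_combination -h4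
        rw [h20, zero_mul]
        exact mul_self_eq_zero.1 h5
      · refine ⟨g.trace / 2, ?_, by field_simp⟩
        field_simp
        linear_combination -h4
    have hN : (ε • g - 1) * (ε • g - 1) = 0 := by
      have : (ε • g - 1) * (ε • g - 1) = (ε * ε) • (g * g) - (2 * ε) • g + 1 := by
        rw [sub_mul, mul_sub, mul_sub, smul_mul_smul_comm, one_mul, mul_one, mul_one]
        module
      rw [this, hch, hε, hε2]
      module
    obtain ⟨r, hr⟩ := CharP.exists F
    have : Fact r.Prime := ⟨CharP.char_is_prime F r⟩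
    have h5 : (ε • g) ^ r = 1 := by
      rw [pow_unip hN r]
      have : (r : ℕ) • (ε • g - 1) = ((r : F)) • (ε • g - 1) := (Nat.cast_smul_eq_nsmul F r _).symm
      rw [this, CharP.cast_eq_zero, zero_smul, add_zero]
    have h6 : g ^ (2 * r) = 1 := by
      have h7 : (ε • g) ^ (2 * r) = 1 := by rw [mul_comm, pow_mul, h5, one_pow]
      rw [smul_pow, pow_mul ε, pow_two ε, hε, one_pow, one_smul] at h7
      exact h7
    have h8 : g₀ ^ (2 * r) = 1 := by
      apply Subtype.ext
      have : ((g₀ ^ (2 * r) : Matrix.SpecialLinearGroup (Fin 2) F) : Matrix (Fin 2) (Fin 2) F) = g ^ (2 * r) := by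
        rw [hg]
        simp
      rw [this, h6]
      rfl
    have h9 : p ∣ 2 * r := by rw [← hg₀]; exact orderOf_dvd_of_pow_eq_one h8
    rcases (hp.out.dvd_mul).1 h9 with h | h
    · exact h2 ((Nat.prime_dvd_prime_iff_eq hp.out Nat.prime_two).1 h)
    · have h10 := (Nat.prime_dvd_prime_iff_eq hp.out this.out).1 h
      apply hpF
      rw [h10]
      exact CharP.cast_eq_zero F r
  · obtain ⟨a, b, hab⟩ := exists_pow g.trace p
    have h1 := hab g hch
    rw [hgp] at h1
    have ha : a = 0 := by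
      by_contra ha
      apply hns (a⁻¹ * (1 - b))
      have h3 : a • g = (1 - b) • (1 : Matrix (Fin 2) (Fin 2) F) := by
        rw [sub_smul, one_smul]
        exact eq_sub_of_add_eq h1.symm
      rw [mul_smul, ← h3, smul_smul, inv_mul_cancel₀ ha, one_smul]
    have hb : b = 1 := by
      rw [ha, zero_smul, zero_add] at h1
      have := congrFun (congrFun h1 0) 0
      simpa using this.symm
    intro x hx
    rw [hab x hx, ha, hb, zero_smul, zero_add, one_smul]

section Plane

variable {F V : Type*} [Field F] [AddCommGroup V] [Module F V] {Q : QuadraticForm F V}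

/-- first coordinate -/
def al (Q : QuadraticForm F V) (c : F) (u v : V) : V →ₗ[F] F :=
  (4 - c * c)⁻¹ • ((2 : F) • polarBilin Q u - c • polarBilin Q v)

theorem al_apply (c : F) (u v w : V) : al Q c u v w = (4 - c * c)⁻¹ * (2 * polar Q u w - c * polar Q v w) := by
  simp only [al, LinearMap.smul_apply, LinearMap.sub_apply, polarBilin_apply_apply, smul_eq_mul]

theorem split_plane {c : F} (hc : 4 - c * c ≠ 0) {u v : V} (hu : Q u = 1) (hv : Q v = 1) (huv : polar Q u v = c) :
    Split Q u v (al Q c u v) (al Q c v u) := by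
  have huu : polar Q u u = 2 := by rw [polar_self', hu, mul_one]
  have hvv : polar Q v v = 2 := by rw [polar_self', hv, mul_one]
  have hvu : polar Q v u = c := by rw [polar_comm, huv]
  have key : ∀ a b : F, (4 - c * c)⁻¹ * (2 * a - c * b) = 0 → (4 - c * c)⁻¹ * (2 * b - c * a) = 0 → a = 0 := by
    intro a b h1 h2
    have h1' := (mul_eq_zero.1 h1).resolve_left (inv_ne_zero hc)
    have h2' := (mul_eq_zero.1 h2).resolve_left (inv_ne_zero hc)
    have h3 : (4 - c * c) * a = 0 := by linear_combination 2 * h1' + c * h2'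
    exact (mul_eq_zero.1 h3).resolve_left hc
  refine ⟨?_, ?_, ?_, ?_, ?_, ?_⟩
  · rw [al_apply, huu, hvu]
    have : (2 : F) * 2 - c * c = 4 - c * c := by norm_num
    rw [this, inv_mul_cancel₀ hc]
  · rw [al_apply, huv, hvv]
    ring
  · rw [al_apply, hvu, huu]
    ring
  · rw [al_apply, hvv, huv]
    have : (2 : F) * 2 - c * c = 4 - c * c := by norm_num
    rw [this, inv_mul_cancel₀ hc]
  · intro w h1 h2
    rw [al_apply] at h1 h2
    exact key _ _ h1 h2
  · intro w h1 h2
    rw [al_apply] at h1 h2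
    exact key _ _ h2 h1

theorem refl_refl_apply {c : F} {u v : V} (hu : Q u = 1) (hv : Q v = 1) (huv : polar Q u v = c) (hu0 : Q u ≠ 0)
    (hv0 : Q v ≠ 0) (z : V) : (refl Q u hu0 * refl Q v hv0) z =
      z - polar Q v z • v - (polar Q u z - polar Q v z * c) • u := by
  show refl Q u hu0 (refl Q v hv0 z) = _
  rw [refl_apply, refl_apply, hu, hv, inv_one, one_mul, one_mul, polar_sub_right, polar_smul_right, huv, smul_eq_mul]

theorem exists_uv (hG : Good Q) (c : F) : ∃ u v : V, Q u = 1 ∧ Q v = 1 ∧ polar Q u v = c := by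
  obtain ⟨x, y, h⟩ := hG.exists_hyp
  obtain ⟨z, w, h', h1, h2, h3, h4⟩ := hG.exists_hyp2 h
  refine ⟨x + y, c • x + (z + w), ?_, ?_, ?_⟩
  · rw [Q_add, h.left, h.right, h.pair]; ring
  · rw [Q_add, Q_add, QuadraticMap.map_smul, h.left, h'.left, h'.right, h'.pair, polar_smul_left, polar_add_right,
      h1, h2]
    simp
  · rw [polar_add_left, polar_add_right, polar_add_right, polar_add_right, polar_add_right, polar_smul_right,
      polar_smul_right, h.polar_left, h.pair', h1, h2, h3, h4]
    simp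

/-- the linear map from the coordinates -/
def phi (u v : V) : (Fin 2 → F) →ₗ[F] V where
  toFun e := e 0 • u + e 1 • v
  map_add' a b := by simp only [Pi.add_apply]; module
  map_smul' a b := by simp only [Pi.smul_apply, smul_eq_mul, RingHom.id_apply]; module

/-- the square of the companion matrix -/
theorem sq_companion (c : F) : (!![c, 1; -1, 0] : Matrix (Fin 2) (Fin 2) F) * !![c, 1; -1, 0] =
    !![c * c - 1, c; -c, -1] := by
  rw [Matrix.mul_fin_two]
  congr 1
  ext i j
  fin_cases i <;> fin_cases j <;> simp <;> ring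

theorem companion_rel (c : F) : (!![c, 1; -1, 0] : Matrix (Fin 2) (Fin 2) F) * !![c, 1; -1, 0] =
    c • (!![c, 1; -1, 0] : Matrix (Fin 2) (Fin 2) F) - 1 := by
  rw [sq_companion]
  ext i j
  fin_cases i <;> fin_cases j <;> simp

theorem pow_eq_one_of_plane {p : ℕ} {c : F} (hc : 4 - c * c ≠ 0)
    (hcp : ∀ g : Matrix (Fin 2) (Fin 2) F, g * g = c • g - 1 → g ^ p = 1) {u v : V} (hu : Q u = 1) (hv : Q v = 1)
    (huv : polar Q u v = c) (hu0 : Q u ≠ 0) (hv0 : Q v ≠ 0) : (refl Q u hu0 * refl Q v hv0) ^ p = 1 := by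
  obtain ⟨t, ht⟩ : ∃ t, t = refl Q u hu0 * refl Q v hv0 := ⟨_, rfl⟩
  have happ : ∀ z, t z = z - polar Q v z • v - (polar Q u z - polar Q v z * c) • u := by
    rw [ht]; exact refl_refl_apply hu hv huv hu0 hv0
  have huu : polar Q u u = 2 := by rw [polar_self', hu, mul_one]
  have hvv : polar Q v v = 2 := by rw [polar_self', hv, mul_one]
  have hvu : polar Q v u = c := by rw [polar_comm, huv]
  have h1 : ∀ e : Fin 2 → F, t (phi u v e) = phi u v ((!![c * c - 1, c; -c, -1] : Matrix (Fin 2) (Fin 2) F) *ᵥ e) := by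
    intro e
    show t (e 0 • u + e 1 • v) = _ • u + _ • v
    rw [map_add, map_smul, map_smul, happ, happ, huu, hvv, hvu, huv]
    simp only [Matrix.mulVec, dotProduct, Fin.sum_univ_two, Matrix.of_apply, Matrix.cons_val', Matrix.cons_val_zero,
      Matrix.cons_val_one, Matrix.cons_val_fin_one]
    module
  have h2 : ∀ (n : ℕ) (e : Fin 2 → F), (t ^ n) (phi u v e) =
      phi u v ((!![c * c - 1, c; -c, -1] : Matrix (Fin 2) (Fin 2) F) ^ n *ᵥ e) := by
    intro n
    induction n with
    | zero => intro e; rw [pow_zero, pow_zero, Matrix.one_mulVec]; rfl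
    | succ n ih =>
      intro e
      rw [pow_succ, pow_succ, ← Matrix.mulVec_mulVec, ← ih, ← h1]
      rfl
  have hA : (!![c * c - 1, c; -c, -1] : Matrix (Fin 2) (Fin 2) F) ^ p = 1 := by
    rw [← sq_companion, ← pow_two, ← pow_mul, mul_comm, pow_mul, hcp _ (companion_rel c), one_pow]
  have hsp := split_plane hc hu hv huv
  have h3 : ∀ (n : ℕ) (w : V), al Q c u v w = 0 → al Q c v u w = 0 → (t ^ n) w = w := by
    intro n w hw1 hw2
    have h4 : t w = w := by
      rw [happ, hsp.px w hw1 hw2, hsp.py w hw1 hw2]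
      simp
    induction n with
    | zero => rfl
    | succ n ih =>
      rw [pow_succ]
      show (t ^ n) (t w) = w
      rw [h4, ih]
  rw [← ht]
  ext1 z
  obtain ⟨⟨w, a, b⟩, rfl⟩ := (splitEquiv hsp).surjective z
  obtain ⟨m1, m2⟩ := mem_Comp.1 w.2
  have h5 : splitEquiv hsp (w, a, b) = (w : V) + phi u v ![a, b] := by
    rw [splitEquiv_apply, add_assoc]
    rfl
  rw [h5, map_add, h3 p _ m1 m2, h2, hA, Matrix.one_mulVec]
  rfl

end Plane

variable {ι : Type} [Fintype ι] [DecidableEq ι] {F : Type} [Field F] [Fintype F] {Q : QuadraticForm F (ι → F)}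
  {p : ℕ} [hp : Fact p.Prime]

/-- **the case `p ∣ q ^ 2 - 1`** -/
theorem nb_dvd (hG : Good Q) (hd : 7 ≤ Fintype.card ι) (h2 : p ≠ 2) (hdvd : p ∣ Fintype.card F ^ 2 - 1)
    (ih : IH p (Nat.card (POmega F ⇑Q))) : NB p (POmega F ⇑Q) := by
  obtain ⟨c, hc, hcp⟩ := exists_trace (F := F) h2 hdvd
  obtain ⟨u, v, hu, hv, huv⟩ := exists_uv hG c
  have hu0 : Q u ≠ 0 := by rw [hu]; exact one_ne_zero
  have hv0 : Q v ≠ 0 := by rw [hv]; exact one_ne_zero
  have hsp := split_plane hc hu hv huv
  have happ := refl_refl_apply hu hv huv hu0 hv0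
  refine OrthTor.nb_of_split hG hsp hd h2 ⟨refl Q u hu0 * refl Q v hv0, hG.refl_mul_refl_mem hv0 hu0 (hv.trans hu.symm)⟩
    ?_ ?_ ?_ ih
  · apply Subtype.ext
    exact pow_eq_one_of_plane hc hcp hu hv huv hu0 hv0
  · intro w h1 h3
    show (refl Q u hu0 * refl Q v hv0) w = w
    rw [happ, hsp.px w h1 h3, hsp.py w h1 h3]
    simp
  · intro w hw
    have h1 : (refl Q u hu0 * refl Q v hv0) w = w := hw
    rw [happ] at h1
    have h3 : polar Q v w • v + (polar Q u w - polar Q v w * c) • u = 0 := by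
      have h4 : w - (polar Q v w • v + (polar Q u w - polar Q v w * c) • u) = w := by rw [← sub_sub]; exact h1
      exact sub_eq_self.1 h4
    have h4 := congrArg (al Q c v u) h3
    have h5 := congrArg (al Q c u v) h3
    simp only [map_add, map_smul, map_zero, hsp.ax, hsp.ay, hsp.bx, hsp.bY, smul_eq_mul, mul_one, mul_zero, add_zero,
      zero_add] at h4 h5
    rw [h4, zero_mul, sub_zero] at h5
    rw [al_apply, al_apply, h4, h5]
    simp

end Cfsg.Agent.H107.NB.OrthPlane
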