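import Cfsg.Agent.H107.NB.OrthStar

/-!
# S5003: the rows of the orthogonal groups (task 2474)

`nb_pomegaOdd`, `nb_pomegaPlus`, `nb_pomegaMinus`.
-/

set_option autoImplicit false

namespace Cfsg.Agent.H107.NB.OrthRows

open QuadraticMap Cfsg
open Cfsg.Agent.LieClassical.OrthCore Cfsg.Agent.LieClassical.OrthTrans Cfsg.Agent.LieClassical.OrthSimple
open Cfsg.Agent.LieClassical.OrthForms Cfsg.Agent.LieClassical.OrthFinite Cfsg.Agent.GenOrth
open Cfsg.Agent.H7.NBp Cfsg.Agent.H718.NBIH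

section

variable {ι : Type} [Fintype ι] [DecidableEq ι] {F : Type} [Field F] [Fintype F] {Q : QuadraticForm F (ι → F)}
  {p : ℕ} [hp : Fact p.Prime]

theorem nb_good (hG : Good Q) (hd : 7 ≤ Fintype.card ι) (h2 : p ≠ 2) (hpF : (p : F) ≠ 0)
    (ih : IH p (Nat.card (POmega F ⇑Q))) : NB p (POmega F ⇑Q) := by
  by_cases h : p ∣ Fintype.card F ^ 2 - 1
  · exact OrthPlane.nb_dvd hG hd h2 h ih
  · exact OrthStar.nb_star hG hpF h

omit [Fintype F] in
theorem charP_of_cast (h : (p : F) = 0) : CharP F p := by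
  obtain ⟨r, hr⟩ := CharP.exists F
  have h1 : r ∣ p := (CharP.cast_eq_zero_iff F r p).1 h
  rcases (Nat.dvd_prime hp.out).1 h1 with h2 | h2
  · rw [h2] at hr
    have := CharP.cast_eq_zero F 1
    rw [Nat.cast_one] at this
    exact absurd this one_ne_zero
  · rw [← h2]
    exact hr

theorem two_ne_zero_of_odd (h : Odd (Fintype.card F)) : (2 : F) ≠ 0 := by
  intro h2
  obtain ⟨k, hk⟩ := h
  have h3 : ((Fintype.card F : ℕ) : F) = 0 := Nat.cast_card_eq_zero F
  rw [hk] at h3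
  push_cast at h3
  rw [h2, zero_mul, zero_add] at h3
  exact one_ne_zero h3

theorem good_odd {m : ℕ} (hm : 2 ≤ m) (h2 : (2 : F) ≠ 0) : Good (oddForm m F) :=
  good_of_finite (nondeg_oddForm m F h2) (by
    rw [Module.finrank_fintype_fun_eq_card]
    simp
    omega)

theorem good_plus {m : ℕ} (hm : 3 ≤ m) : Good (plusForm m F) :=
  good_of_finite (nondeg_plusForm m F) (by
    rw [Module.finrank_fintype_fun_eq_card]
    simp
    omega)

theorem good_minus {m : ℕ} (hm : 2 ≤ m) {a b : F}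
    (hab : ∀ z₁ z₂ : F, z₁ ^ 2 + a * z₁ * z₂ + b * z₂ ^ 2 = 0 → z₁ = 0 ∧ z₂ = 0) : Good (minusForm m F a b) :=
  good_of_finite (nondeg_minusForm m F a b hab) (by
    rw [Module.finrank_fintype_fun_eq_card]
    simp
    omega)

end

theorem nb_pomegaOdd {p : ℕ} [Fact p.Prime] (h2 : p ≠ 2) (S : Type) [Group S] [Finite S] [IsSimpleGroup S]
    (h : IsPOmegaOdd S) (ih : IH p (Nat.card S)) : NB p S := by
  obtain ⟨F, i1, i2, m, hm, ho, ⟨e⟩⟩ := h
  by_cases hpF : (p : F) = 0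
  · exact NB.of_lie (Or.inr (Or.inr (Or.inr (Or.inl ⟨F, i1, i2, charP_of_cast hpF, m, hm, ho, ⟨e⟩⟩))))
  · have hG := good_odd (F := F) (m := m) (by omega) (two_ne_zero_of_odd ho)
    rw [Nat.card_congr e.toEquiv] at ih
    refine NB.iso e.symm ?_
    rw [← coe_oddForm] at ih ⊢
    exact nb_good hG (by simp; omega) h2 hpF ih

theorem nb_pomegaPlus {p : ℕ} [Fact p.Prime] (h2 : p ≠ 2) (S : Type) [Group S] [Finite S] [IsSimpleGroup S]
    (h : IsPOmegaPlus S) (ih : IH p (Nat.card S)) : NB p S := by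
  obtain ⟨F, i1, i2, m, hm, ⟨e⟩⟩ := h
  by_cases hpF : (p : F) = 0
  · exact NB.of_lie (Or.inr (Or.inr (Or.inr (Or.inr (Or.inl ⟨F, i1, i2, charP_of_cast hpF, m, hm, ⟨e⟩⟩)))))
  · have hG := good_plus (F := F) (m := m) (by omega)
    rw [Nat.card_congr e.toEquiv] at ih
    refine NB.iso e.symm ?_
    rw [← coe_plusForm] at ih ⊢
    exact nb_good hG (by simp; omega) h2 hpF ih

theorem nb_pomegaMinus {p : ℕ} [Fact p.Prime] (h2 : p ≠ 2) (S : Type) [Group S] [Finite S] [IsSimpleGroup S]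
    (h : IsPOmegaMinus S) (ih : IH p (Nat.card S)) : NB p S := by
  obtain ⟨F, i1, i2, m, a, b, hm, hab, ⟨e⟩⟩ := h
  by_cases hpF : (p : F) = 0
  · exact NB.of_lie (Or.inr (Or.inr (Or.inr (Or.inr (Or.inr (Or.inl
      ⟨F, i1, i2, charP_of_cast hpF, m, a, b, hm, hab, ⟨e⟩⟩))))))
  · have hG := good_minus (F := F) (m := m - 1) (by omega) hab
    rw [Nat.card_congr e.toEquiv] at ih
    refine NB.iso e.symm ?_
    rw [← coe_minusForm] at ih ⊢
    exact nb_good hG (by simp; omega) h2 hpF ih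

end Cfsg.Agent.H107.NB.OrthRows
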