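import Cfsg.Agent.H107.NB.OrthPlane
import Cfsg.Agent.H7.NBpCount

/-!
# S5003: orthogonal groups, `p` prime to `q (q ^ 2 - 1)`

`K` = the images of the long root elements `siegel Q u w`, `u`, `w` singular and orthogonal.  For `g`, `k` in `K`,
`g k⁻¹` is unipotent or acts as an element `≠ 1` of `SL₂(F)` on a plane: it is a `p`-element only if `g = k`.
-/

set_option autoImplicit false
set_option linter.unusedSectionVars false

namespace Cfsg.Agent.H107.NB.OrthStar

open QuadraticMap Cfsg Matrix
open Cfsg.Agent.LieClassical.OrthCore Cfsg.Agent.LieClassical.OrthTrans Cfsg.Agent.LieClassical.OrthSimple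
open Cfsg.Agent.LieClassical.OrthFinite Cfsg.Agent.GenOrth Cfsg.Agent.TitsThree.KSideO
open Cfsg.Agent.H7.NBp Cfsg.Agent.H107.NB.OrthTor Cfsg.Agent.H107.NB.OrthPlane

section Unip

variable {F V : Type*} [Field F] [AddCommGroup V] [Module F V]

theorem eq_one_of_coprime {G : Type*} [Group G] {y : G} {m n : ℕ} (h1 : y ^ m = 1) (h2 : y ^ n = 1)
    (h : Nat.Coprime m n) : y = 1 := by
  have h3 : orderOf y ∣ Nat.gcd m n := Nat.dvd_gcd (orderOf_dvd_of_pow_eq_one h1) (orderOf_dvd_of_pow_eq_one h2)
  rw [h] at h3
  exact orderOf_eq_one_iff.1 (Nat.dvd_one.1 h3)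

/-- unipotent elements of order prime to the characteristic -/
theorem eq_one_of_unip {r p j : ℕ} [hr : Fact r.Prime] [hp : Fact p.Prime] [CharP F r] (hpr : p ≠ r)
    {y : V ≃ₗ[F] V} (h4 : (((y : V →ₗ[F] V) : Module.End F V) - 1) ^ 4 = 0) (hy : y ^ p ^ j = 1) : y = 1 := by
  rcases subsingleton_or_nontrivial V with h | h
  · ext1 v
    exact Subsingleton.elim _ _
  have hc : CharP (Module.End F V) r := charP_of_injective_algebraMap (algebraMap F (Module.End F V)).injective r
  obtain ⟨N, hN⟩ : ∃ N : Module.End F V, N = ((y : V →ₗ[F] V) : Module.End F V) - 1 := ⟨_, rfl⟩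
  have hy1 : ((y : V →ₗ[F] V) : Module.End F V) = 1 + N := by rw [hN]; abel
  rw [← hN] at h4
  have h5 : ((y : V →ₗ[F] V) : Module.End F V) ^ r ^ 2 = 1 := by
    have hcom : Commute (1 : Module.End F V) N := Commute.one_left N
    rw [hy1, add_pow_char_pow_of_commute r 2 hcom, one_pow]
    have h6 : 4 ≤ r ^ 2 := by
      have := hr.out.two_le
      nlinarith
    rw [pow_eq_zero_of_le h6 h4, add_zero]
  have h6 : y ^ r ^ 2 = 1 := by
    ext1 v
    have h7 : ∀ n : ℕ, ((y : V →ₗ[F] V) : Module.End F V) ^ n = (((y ^ n : V ≃ₗ[F] V) : V →ₗ[F] V) : Module.End F V) := by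
      intro n
      induction n with
      | zero => rfl
      | succ n ih => rw [pow_succ, pow_succ, ih]; rfl
    rw [h7] at h5
    exact congrArg (fun f : Module.End F V => f v) h5
  refine eq_one_of_coprime hy h6 ?_
  exact Nat.Coprime.pow _ _ ((Nat.coprime_primes hp.out hr.out).2 hpr)

end Unip

section Pair

variable {F V : Type*} [Field F] [AddCommGroup V] [Module F V] {Q : QuadraticForm F V}

theorem lr_apply {u w : V} (hu : Q u = 0) (hw : Q w = 0) (huw : polar Q u w = 0) (x : V) :
    siegel Q u w hu huw x = x + polar Q u x • w - polar Q w x • u := by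
  rw [siegel_apply, hw, zero_mul, zero_smul, sub_zero]

theorem lr_inv_apply {u w : V} (hu : Q u = 0) (hw : Q w = 0) (huw : polar Q u w = 0) (x : V) :
    (siegel Q u w hu huw)⁻¹ x = x - polar Q u x • w + polar Q w x • u := by
  rw [siegel_inv hu huw (by rw [polar_neg_right, huw, neg_zero]), siegel_apply, QuadraticMap.map_neg, hw,
    polar_neg_left]
  module

/-- the product of two long root elements -/
theorem lr_mul_inv [Fintype F] {p j : ℕ} [hp : Fact p.Prime] (hpF : (p : F) ≠ 0)
    (hd : ¬ p ∣ Fintype.card F ^ 2 - 1) {u w u' w' : V} (hu : Q u = 0) (hw : Q w = 0) (huw : polar Q u w = 0)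
    (hu' : Q u' = 0) (hw' : Q w' = 0) (huw' : polar Q u' w' = 0) (hli : ∀ a b : F, a • u + b • w = 0 → a = 0 ∧ b = 0)
    (hy : (siegel Q u w hu huw * (siegel Q u' w' hu' huw')⁻¹) ^ p ^ j = 1) :
    siegel Q u w hu huw * (siegel Q u' w' hu' huw')⁻¹ = 1 := by
  classical
  obtain ⟨r, hr⟩ := CharP.exists F
  have hrp : Fact r.Prime := ⟨CharP.char_is_prime F r⟩
  have hpr : p ≠ r := by
    rintro rfl
    exact hpF (CharP.cast_eq_zero F p)
  have huu : polar Q u u = 0 := polar_self_of_sing hu
  have hww : polar Q w w = 0 := polar_self_of_sing hw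
  have hwu : polar Q w u = 0 := by rw [polar_comm, huw]
  have huu' : polar Q u' u' = 0 := polar_self_of_sing hu'
  have hww' : polar Q w' w' = 0 := polar_self_of_sing hw'
  have hwu' : polar Q w' u' = 0 := by rw [polar_comm, huw']
  obtain ⟨y, hyd⟩ : ∃ y, y = siegel Q u w hu huw * (siegel Q u' w' hu' huw')⁻¹ := ⟨_, rfl⟩
  rw [← hyd] at hy ⊢
  have happ : ∀ x, y x = siegel Q u w hu huw ((siegel Q u' w' hu' huw')⁻¹ x) := by
    intro x
    rw [hyd]
    rfl
  have hg := lr_apply hu hw huw
  have hk := lr_inv_apply hu' hw' huw'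
  obtain ⟨D, hD⟩ : ∃ D, D = polar Q u u' * polar Q w w' - polar Q u w' * polar Q w u' := ⟨_, rfl⟩
  by_cases hD0 : D = 0
  · -- the unipotent case
    obtain ⟨a, b, hab, h1, h2⟩ : ∃ a b : F, (a ≠ 0 ∨ b ≠ 0) ∧ a * polar Q u u' + b * polar Q w u' = 0 ∧
        a * polar Q u w' + b * polar Q w w' = 0 := by
      by_cases hA : polar Q u u' = 0 ∧ polar Q w u' = 0
      · by_cases hB : polar Q u w' = 0 ∧ polar Q w w' = 0
        · refine ⟨1, 0, Or.inl one_ne_zero, ?_, ?_⟩
          · rw [hA.1, hA.2]; ring
          · rw [hB.1, hB.2]; ring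
        · refine ⟨polar Q w w', -polar Q u w', ?_, ?_, ?_⟩
          · by_contra h
            push Not at h
            exact hB ⟨by simpa using h.2, h.1⟩
          · rw [hA.1, hA.2]; ring
          · ring
      · refine ⟨polar Q w u', -polar Q u u', ?_, ?_, ?_⟩
        · by_contra h
          push Not at h
          exact hA ⟨by simpa using h.2, h.1⟩
        · ring
        · rw [hD0] at hD
          linear_combination hD
    obtain ⟨v, hv⟩ : ∃ v, v = a • u + b • w := ⟨_, rfl⟩
    have hvu : polar Q v u = 0 := by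
      rw [hv, polar_add_left, polar_smul_left, polar_smul_left, huu, hwu]; simp
    have hvw : polar Q v w = 0 := by
      rw [hv, polar_add_left, polar_smul_left, polar_smul_left, hww, huw]; simp
    have hvu' : polar Q v u' = 0 := by
      rw [hv, polar_add_left, polar_smul_left, polar_smul_left]; exact h1
    have hvw' : polar Q v w' = 0 := by
      rw [hv, polar_add_left, polar_smul_left, polar_smul_left]; exact h2
    have huv : polar Q u v = 0 := by rw [polar_comm, hvu]
    have hwv : polar Q w v = 0 := by rw [polar_comm, hvw]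
    have huv' : polar Q u' v = 0 := by rw [polar_comm, hvu']
    have hwv' : polar Q w' v = 0 := by rw [polar_comm, hvw']
    have hyv : y v = v := by
      rw [happ, hk, huv', hwv', zero_smul, zero_smul, sub_zero, add_zero, hg, huv, hwv, zero_smul, zero_smul,
        sub_zero, add_zero]
    -- `k` on `v ⊥`
    have s1 : ∀ x, polar Q v x = 0 → ∃ l : F, siegel Q u w hu huw x = x + l • v := by
      intro x hx
      rw [hv, polar_add_left, polar_smul_left, polar_smul_left, smul_eq_mul, smul_eq_mul] at hx
      rcases hab with ha | hb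
      · refine ⟨-(a⁻¹ * polar Q w x), ?_⟩
        rw [hg, hv]
        have h3 : polar Q u x = -(a⁻¹ * b * polar Q w x) := by
          field_simp
          linear_combination hx
        rw [h3]
        match_scalars
        · ring
        · ring
        · field_simp
      · refine ⟨b⁻¹ * polar Q u x, ?_⟩
        rw [hg, hv]
        have h3 : polar Q w x = -(b⁻¹ * a * polar Q u x) := by
          field_simp
          linear_combination hx
        rw [h3]
        match_scalars
        · ring
        · field_simp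
        · ring
    have s2 : ∀ x, polar Q v (y x - x) = 0 := by
      intro x
      rw [happ, hg, hk]
      simp only [polar_sub_right, polar_add_right, polar_smul_right, hvu, hvw, hvu', hvw', smul_zero]
      ring
    have s3 : ∀ x, polar Q v x = 0 → ∃ l : F, y (y x - x) - (y x - x) = l • v := by
      intro x hx
      have hkx : polar Q v ((siegel Q u' w' hu' huw')⁻¹ x) = 0 := by
        rw [hk]
        simp only [polar_sub_right, polar_add_right, polar_smul_right, hvu', hvw', hx, smul_zero]
        ring
      obtain ⟨l, hl⟩ := s1 _ hkx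
      have e1 : y x - x = (polar Q w' x • u' - polar Q u' x • w') + l • v := by
        rw [happ, hl, hk]; abel
      have hx' : polar Q v (polar Q w' x • u' - polar Q u' x • w') = 0 := by
        rw [polar_sub_right, polar_smul_right, polar_smul_right, hvu', hvw']; simp
      obtain ⟨m, hm⟩ := s1 _ hx'
      have e2 : (siegel Q u' w' hu' huw')⁻¹ (polar Q w' x • u' - polar Q u' x • w') =
          polar Q w' x • u' - polar Q u' x • w' := by
        rw [hk]
        simp only [polar_sub_right, polar_smul_right, huu', hww', huw', hwu', smul_zero, sub_zero, zero_smul,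
          add_zero]
      refine ⟨m, ?_⟩
      rw [e1, map_add, map_smul, hyv, happ (_ - _), e2, hm]
      abel
    apply eq_one_of_unip hpr _ hy
    ext x
    show y (y (y (y x - x) - (y x - x)) - (y (y x - x) - (y x - x))) -
      (y (y (y x - x) - (y x - x)) - (y (y x - x) - (y x - x))) = 0
    obtain ⟨l, hl⟩ := s3 (y x - x) (s2 x)
    rw [hl, map_smul, hyv, sub_self]
  · -- the semisimple case
    exfalso
    obtain ⟨z, hz⟩ : ∃ z, z = polar Q w' u • u' - polar Q u' u • w' := ⟨_, rfl⟩
    have c1 : polar Q u' u = polar Q u u' := polar_comm _ _ _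
    have c2 : polar Q w' u = polar Q u w' := polar_comm _ _ _
    have huz : polar Q u z = 0 := by
      rw [hz, polar_sub_right, polar_smul_right, polar_smul_right, smul_eq_mul, smul_eq_mul, c1, c2]; ring
    have hwz : polar Q w z = -D := by
      rw [hz, polar_sub_right, polar_smul_right, polar_smul_right, smul_eq_mul, smul_eq_mul, c1, c2, hD]; ring
    have hyu : y u = (1 + D) • u + z := by
      have e1 : (siegel Q u' w' hu' huw')⁻¹ u = u + z := by rw [hk, hz]; abel
      rw [happ, e1, map_add, hg, hg, huu, hwu, huz, hwz]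
      module
    have hyz : y z = D • u + z := by
      have e1 : (siegel Q u' w' hu' huw')⁻¹ z = z := by
        rw [hk, hz]
        simp only [polar_sub_right, polar_smul_right, huu', hww', huw', hwu', smul_zero, sub_zero, zero_smul,
          add_zero]
      rw [happ, e1, hg, huz, hwz]
      module
    have hdet : (!![1 + D, D; 1, 1] : Matrix (Fin 2) (Fin 2) F).det = 1 := by
      rw [Matrix.det_fin_two_of]; ring
    obtain ⟨B, hB⟩ : ∃ B : Matrix.SpecialLinearGroup (Fin 2) F, B = ⟨!![1 + D, D; 1, 1], hdet⟩ := ⟨_, rfl⟩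
    have h1 : ∀ e : Fin 2 → F, y (phi u z e) = phi u z ((!![1 + D, D; 1, 1] : Matrix (Fin 2) (Fin 2) F) *ᵥ e) := by
      intro e
      show y (e 0 • u + e 1 • z) = _ • u + _ • z
      rw [map_add, map_smul, map_smul, hyu, hyz]
      simp only [Matrix.mulVec, dotProduct, Fin.sum_univ_two, Matrix.of_apply, Matrix.cons_val', Matrix.cons_val_zero,
        Matrix.cons_val_one, Matrix.cons_val_fin_one]
      module
    have h2 : ∀ (n : ℕ) (e : Fin 2 → F), (y ^ n) (phi u z e) =
        phi u z ((!![1 + D, D; 1, 1] : Matrix (Fin 2) (Fin 2) F) ^ n *ᵥ e) := by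
      intro n
      induction n with
      | zero => intro e; rw [pow_zero, pow_zero, Matrix.one_mulVec]; rfl
      | succ n ih =>
        intro e
        rw [pow_succ, pow_succ, ← Matrix.mulVec_mulVec, ← ih, ← h1]
        rfl
    have hinj : Function.Injective (phi u z : (Fin 2 → F) →ₗ[F] V) := by
      rw [injective_iff_map_eq_zero]
      intro e he
      have h3 : e 0 • u + e 1 • z = 0 := he
      have h4 : e 1 * D = 0 := by
        have h5 : polar Q w (e 0 • u + e 1 • z) = 0 := by rw [h3, polar_zero_right]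
        rw [polar_add_right, polar_smul_right, polar_smul_right, hwu, hwz, smul_eq_mul, smul_eq_mul] at h5
        linear_combination -h5
      have h5 : e 1 = 0 := (mul_eq_zero.1 h4).resolve_right hD0
      have h6 : e 0 = 0 := by
        apply (hli (e 0) 0 _).1
        rw [h5, zero_smul, add_zero] at h3
        rw [h3, zero_smul, add_zero]
      funext i
      fin_cases i
      · exact h6
      · exact h5
    have h3 : B ^ p ^ j = 1 := by
      apply Subtype.ext
      have h4 : ((B ^ p ^ j : Matrix.SpecialLinearGroup (Fin 2) F) : Matrix (Fin 2) (Fin 2) F) =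
          !![1 + D, D; 1, 1] ^ p ^ j := by
        rw [Matrix.SpecialLinearGroup.coe_pow]
        congr 1
        rw [hB]
      rw [h4]
      have h5 : ∀ e : Fin 2 → F, (!![1 + D, D; 1, 1] : Matrix (Fin 2) (Fin 2) F) ^ p ^ j *ᵥ e = 1 *ᵥ e := by
        intro e
        apply hinj
        rw [← h2, hy, Matrix.one_mulVec]
        rfl
      show (!![1 + D, D; 1, 1] : Matrix (Fin 2) (Fin 2) F) ^ p ^ j = 1
      exact Matrix.ext_of_mulVec_single fun i => h5 _
    have h4 : B ^ (Fintype.card F * (Fintype.card F ^ 2 - 1)) = 1 := by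
      rw [← Cfsg.Agent.ClassicalGeometry.PSL2Basic.card_SL2]
      exact pow_card_eq_one'
    have h5 : B = 1 := by
      refine eq_one_of_coprime h3 h4 (Nat.Coprime.pow_left _ ((Nat.Prime.coprime_iff_not_dvd hp.out).2 fun h => ?_))
      rcases (hp.out.dvd_mul).1 h with h | h
      · obtain ⟨n, -, hn⟩ := FiniteField.card F r
        rw [hn] at h
        exact hpr ((Nat.prime_dvd_prime_iff_eq hp.out hrp.out).1 (hp.out.dvd_of_dvd_pow h))
      · exact hd h
    rw [hB] at h5
    have h6 := congrFun (congrFun (congrArg Subtype.val h5) 1) 0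
    simp at h6

end Pair

variable {ι : Type} [Fintype ι] [DecidableEq ι] {F : Type} [Field F] [Fintype F] {Q : QuadraticForm F (ι → F)}
  {p : ℕ} [hp : Fact p.Prime]

/-- **the case `p` prime to `q (q ^ 2 - 1)`** -/
theorem nb_star (hG : Good Q) (hpF : (p : F) ≠ 0) (hd : ¬ p ∣ Fintype.card F ^ 2 - 1) : NB p (POmega F ⇑Q) := by
  have hfin := finite_pomega (Q := Q)
  obtain ⟨u, u₁, h⟩ := hG.exists_hyp
  obtain ⟨w, w₁, h', h1, h2, h3, h4⟩ := hG.exists_hyp2 h
  have hli : ∀ a b : F, a • u + b • w = 0 → a = 0 ∧ b = 0 := by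
    intro a b hab
    constructor
    · have h5 : polar Q u₁ (a • u + b • w) = 0 := by rw [hab, polar_zero_right]
      rw [polar_add_right, polar_smul_right, polar_smul_right, h.pair', h3] at h5
      simpa using h5
    · have h5 : polar Q w₁ (a • u + b • w) = 0 := by rw [hab, polar_zero_right]
      rw [polar_add_right, polar_smul_right, polar_smul_right, h'.pair', polar_comm Q w₁ u, h2] at h5
      simpa using h5
  -- elements of `E Q` which fix a vector
  have key : ∀ y : E Q, (∃ v, v ≠ 0 ∧ y.1 v = v) → ∀ n, toPOmega hG y ^ n = 1 → y ^ n = 1 := by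
    rintro y ⟨v, hv0, hv⟩ n hn
    rw [← map_pow] at hn
    obtain ⟨c, -, hc⟩ := scalar_of_ker hG hn
    have h5 : ∀ n : ℕ, (y ^ n).1 v = v := by
      intro n
      induction n with
      | zero => rfl
      | succ n ih =>
        rw [pow_succ]
        show (y ^ n).1 (y.1 v) = v
        rw [hv, ih]
    have h6 := hc v
    rw [h5] at h6
    have h7 : c = 1 := by
      have h8 : (1 - c) • v = 0 := by rw [sub_smul, one_smul, ← h6, sub_self]
      exact (sub_eq_zero.1 ((smul_eq_zero.1 h8).resolve_right hv0)).symm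
    apply Subtype.ext
    ext1 x
    rw [hc, h7, one_smul]
    rfl
  refine NB.of_unique (K := {x | ∃ (u w : ι → F) (hu : Q u = 0) (_ : Q w = 0) (huw : polar Q u w = 0),
    x = toPOmega hG ⟨siegel Q u w hu huw, siegel_mem_E hu huw⟩}) ?_
    (g := toPOmega hG ⟨siegel Q u w h.left h1, siegel_mem_E h.left h1⟩) ?_ ⟨u, w, h.left, h'.left, h1, rfl⟩ ?_
  · rintro g _ ⟨u, w, hu, hw, huw, rfl⟩
    obtain ⟨g, rfl⟩ := toPOmega_surjective hG g
    have hgO := E_le_O g.2
    have e1 : Q (g.1 u) = 0 := by rw [mem_O.1 hgO, hu]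
    have e2 : polar Q (g.1 u) (g.1 w) = 0 := by rw [polar_map hgO, huw]
    refine ⟨g.1 u, g.1 w, e1, by rw [mem_O.1 hgO, hw], e2, ?_⟩
    rw [← map_inv, ← map_mul, ← map_mul]
    congr 1
    exact Subtype.ext (siegel_conj hgO hu huw e1 e2)
  · rintro ⟨j, hj⟩
    have hfu : (⟨siegel Q u w h.left h1, siegel_mem_E h.left h1⟩ : E Q).1 u = u := by
      show siegel Q u w h.left h1 u = u
      rw [lr_apply h.left h'.left h1, h.polar_left, polar_comm Q w u, h1]
      simp
    have h5 := key _ ⟨u, h.left_ne, hfu⟩ _ hj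
    have h6 := lr_mul_inv (j := j) hpF hd h.left h'.left h1 h.left h.left
      (polar_self_of_sing h.left) hli (by
        have e1 : siegel Q u u h.left (polar_self_of_sing h.left) = 1 := by
          ext1 x
          rw [lr_apply h.left h.left (polar_self_of_sing h.left)]
          show _ = x
          abel
        rw [e1, inv_one, mul_one]
        exact congrArg Subtype.val h5)
    have e1 : siegel Q u u h.left (polar_self_of_sing h.left) = 1 := by
      ext1 x
      rw [lr_apply h.left h.left (polar_self_of_sing h.left)]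
      show _ = x
      abel
    rw [e1, inv_one, mul_one] at h6
    have h7 : siegel Q u w h.left h1 u₁ = u₁ := by rw [h6]; rfl
    rw [lr_apply h.left h'.left h1, h.pair, polar_comm Q w u₁, h3, one_smul, zero_smul, sub_zero] at h7
    exact h'.left_ne (by simpa using h7)
  · rintro _ ⟨u', w', hu', hw', huw', rfl⟩ j hj
    rw [← map_inv, ← map_mul] at hj
    obtain ⟨v, hv0, hv⟩ := exists_perp_ne (Q := Q) ![u, w, u', w'] (lt_of_lt_of_le (by norm_num) hG.dim)
    have v0 : polar Q u v = 0 := hv 0
    have v1 : polar Q w v = 0 := hv 1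
    have v2 : polar Q u' v = 0 := hv 2
    have v3 : polar Q w' v = 0 := hv 3
    have h5 := key _ ⟨v, hv0, by
      show siegel Q u w h.left h1 ((siegel Q u' w' hu' huw')⁻¹ v) = v
      rw [lr_inv_apply hu' hw' huw', v2, v3, zero_smul, zero_smul, sub_zero, add_zero, lr_apply h.left h'.left h1,
        v0, v1, zero_smul, zero_smul, sub_zero, add_zero]⟩ _ hj
    have h6 := lr_mul_inv hpF hd h.left h'.left h1 hu' hw' huw' hli (congrArg Subtype.val h5)
    congr 1
    apply Subtype.ext
    exact (mul_inv_eq_one.1 h6).symm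

end Cfsg.Agent.H107.NB.OrthStar
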