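import Cfsg.Agent.GenOrth.Normal
import Cfsg.Agent.TitsThree.KSideO
import Cfsg.Agent.H718.NBIH

/-!
# S5003: orthogonal groups, `p ∣ q ^ 2 - 1`

An element `t` of order `p` of `E Q` which acts without nonzero fixed vectors on a plane and trivially on the
orthogonal complement: the centralizer of its image in `POmega` normalises the image of `E` of the complement.
-/

set_option autoImplicit false
set_option linter.unusedSectionVars false

namespace Cfsg.Agent.H107.NB.OrthTor

open QuadraticMap Cfsg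
open Cfsg.Agent.LieClassical.OrthCore Cfsg.Agent.LieClassical.OrthTrans Cfsg.Agent.LieClassical.OrthSimple
open Cfsg.Agent.LieClassical.OrthFinite Cfsg.Agent.GenOrth Cfsg.Agent.TitsThree.KSideO
open Cfsg.Agent.H7.NBp Cfsg.Agent.H718.NBIH

section Emb

variable {F V : Type*} [Field F] [AddCommGroup V] [Module F V] {Q : QuadraticForm F V} {x y : V}
  {α β : V →ₗ[F] F}

/-- the embedding of the complement of a nondegenerate plane -/
def compEmb (hQ : Nondeg Q) (h : Split Q x y α β) : Emb Q (restr Q α β) where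
  j := (Comp α β).subtype
  π := (LinearMap.fst F _ _).comp (splitEquiv h).symm.toLinearMap
  c := 1
  hc := one_ne_zero
  hQ w := by rw [one_mul]; rfl
  adj w v := by
    obtain ⟨⟨w', a, b⟩, rfl⟩ := (splitEquiv h).surjective v
    obtain ⟨h1, h2⟩ := mem_Comp.1 w.2
    have p1 : polar Q (w : V) x = 0 := by rw [polar_comm]; exact h.px _ h1 h2
    have p2 : polar Q (w : V) y = 0 := by rw [polar_comm]; exact h.py _ h1 h2
    have e1 : ((LinearMap.fst F (Comp α β) (F × F)).comp (splitEquiv h).symm.toLinearMap)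
        (splitEquiv h (w', a, b)) = w' := by
      show ((splitEquiv h).symm (splitEquiv h (w', a, b))).1 = w'
      rw [LinearEquiv.symm_apply_apply]
    rw [e1, one_mul, polar_restr, splitEquiv_apply]
    show polar Q (w : V) _ = _
    rw [polar_add_right, polar_add_right, polar_smul_right, polar_smul_right, p1, p2]
    simp
  nd := nondeg_restr hQ h

theorem compEmb_j (hQ : Nondeg Q) (h : Split Q x y α β) (w : Comp α β) : (compEmb hQ h).j w = (w : V) := rfl

theorem compEmb_π (hQ : Nondeg Q) (h : Split Q x y α β) (v : V) :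
    ((compEmb hQ h).π v : V) = v - α v • x - β v • y := rfl

theorem compEmb_π_eq_zero (hQ : Nondeg Q) (h : Split Q x y α β) {v : V}
    (hv : ∀ w, α w = 0 → β w = 0 → polar Q w v = 0) : (compEmb hQ h).π v = 0 := by
  apply (compEmb hQ h).nd
  intro w
  obtain ⟨h1, h2⟩ := mem_Comp.1 w.2
  have h3 := (compEmb hQ h).adj w v
  rw [compEmb_j, hv _ h1 h2] at h3
  have h4 := (mul_eq_zero.1 h3.symm).resolve_left (compEmb hQ h).hc
  rw [polar_comm]
  exact h4

/-- an isometry which preserves the complement commutes with the projector -/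
theorem comm_proj (hQ : Nondeg Q) (h : Split Q x y α β) {g : V ≃ₗ[F] V} (hg : g ∈ O Q)
    (h1 : ∀ w, α w = 0 → β w = 0 → α (g w) = 0 ∧ β (g w) = 0)
    (h2 : ∀ w, α w = 0 → β w = 0 → α (g.symm w) = 0 ∧ β (g.symm w) = 0) (v : V) :
    g ((compEmb hQ h).j ((compEmb hQ h).π v)) = (compEmb hQ h).j ((compEmb hQ h).π (g v)) := by
  have hz : ∀ z, (∀ w, α w = 0 → β w = 0 → polar Q w z = 0) → (compEmb hQ h).π (g z) = 0 := by
    intro z hz
    refine compEmb_π_eq_zero hQ h fun w hw1 hw2 => ?_
    obtain ⟨k1, k2⟩ := h2 w hw1 hw2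
    rw [← hz _ k1 k2, ← polar_map hg (g.symm w) z, LinearEquiv.apply_symm_apply]
  have hx : (compEmb hQ h).π (g x) = 0 := hz x fun w hw1 hw2 => by rw [polar_comm]; exact h.px w hw1 hw2
  have hy : (compEmb hQ h).π (g y) = 0 := hz y fun w hw1 hw2 => by rw [polar_comm]; exact h.py w hw1 hw2
  have hv : v = (compEmb hQ h).j ((compEmb hQ h).π v) + α v • x + β v • y := by
    rw [compEmb_j, compEmb_π]; abel
  obtain ⟨k1, k2⟩ := mem_Comp.1 ((compEmb hQ h).π v).2
  obtain ⟨m1, m2⟩ := h1 _ k1 k2
  conv_rhs => rw [hv]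
  simp only [map_add, map_smul, hx, hy, smul_zero, map_zero, add_zero]
  have hm : g ((compEmb hQ h).j ((compEmb hQ h).π v)) = (compEmb hQ h).j ⟨_, mem_Comp.2 ⟨m1, m2⟩⟩ := rfl
  rw [hm, (compEmb hQ h).π_j]

end Emb

section Main

variable {ι : Type} [Fintype ι] [DecidableEq ι] {F : Type} [Field F] [Fintype F] {Q : QuadraticForm F (ι → F)}
  {x y : ι → F} {α β : (ι → F) →ₗ[F] F} {p : ℕ} [hp : Fact p.Prime]

theorem finite_pomega : Finite (POmega F ⇑Q) := by
  have : Finite (Matrix.GeneralLinearGroup ι F) := by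
    unfold Matrix.GeneralLinearGroup; infer_instance
  infer_instance

theorem finite_E {V : Type*} [AddCommGroup V] [Module F V] [Finite V] (Q : QuadraticForm F V) : Finite ↥(E Q) := by
  have : Finite (V ≃ₗ[F] V) := Finite.of_injective (fun g : V ≃ₗ[F] V => (g : V → V)) DFunLike.coe_injective
  infer_instance

theorem scalar_pm (hG : Good Q) {g : (ι → F) ≃ₗ[F] (ι → F)} (hg : g ∈ E Q) {c : F} (hc : ∀ v, g v = c • v) :
    c = 1 ∨ c = -1 := by
  obtain ⟨x, y, h⟩ := hG.exists_hyp
  have h1 : Q (x + y) = 1 := by rw [Q_add, h.left, h.right, h.pair]; ring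
  have h2 := mem_O.1 (E_le_O hg) (x + y)
  rw [hc, QuadraticMap.map_smul, h1, smul_eq_mul, mul_one] at h2
  exact mul_self_eq_one_iff.1 h2

theorem scalar_of_ker (hG : Good Q) {g : E Q} (h : toPOmega hG g = 1) :
    ∃ c : F, (c = 1 ∨ c = -1) ∧ ∀ v, g.1 v = c • v := by
  obtain ⟨c, hc⟩ := scalar_of_center hG (center_of_toPOmega hG h)
  exact ⟨c, scalar_pm hG g.2 hc, hc⟩

theorem not_comm_quot {K : Type*} [Group K] (h1 : commutator K = ⊤) (h2 : IsSimpleGroup (K ⧸ Subgroup.center K)) :
    ¬ IsMulCommutative (K ⧸ Subgroup.center K) := by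
  intro h
  have h3 : commutator K ≤ Subgroup.center K := by
    rw [commutator_def, Subgroup.commutator_le]
    intro a _ b _
    rw [← QuotientGroup.eq_one_iff]
    have h2 := h.is_comm.comm (a : K ⧸ Subgroup.center K) (b : K ⧸ Subgroup.center K)
    rw [commutatorElement_def, QuotientGroup.mk_mul, QuotientGroup.mk_mul, QuotientGroup.mk_mul, h2,
      QuotientGroup.mk_inv, QuotientGroup.mk_inv]
    group
  rw [h1, top_le_iff] at h3
  obtain ⟨a, b, hab⟩ := h2.exists_pair_ne
  obtain ⟨a, rfl⟩ := QuotientGroup.mk_surjective a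
  obtain ⟨b, rfl⟩ := QuotientGroup.mk_surjective b
  apply hab
  rw [QuotientGroup.eq, h3]
  exact Subgroup.mem_top _

theorem commutator_E {V : Type*} [AddCommGroup V] [Module F V] {Q : QuadraticForm F V} (hG : Good Q) :
    commutator ↥(E Q) = ⊤ :=
  (Subgroup.isPerfect_iff.mpr hG.E_perfect).commutator_eq_top

/-- **`t` of order `p` on a plane.** -/
theorem nb_of_split (hG : Good Q) (h : Split Q x y α β) (hd : 7 ≤ Fintype.card ι) (h2 : p ≠ 2) (t : E Q)
    (htp : t ^ p = 1) (hfix : ∀ w, α w = 0 → β w = 0 → t.1 w = w)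
    (hfree : ∀ w, t.1 w = w → α w = 0 ∧ β w = 0) (ih : IH p (Nat.card (POmega F ⇑Q))) : NB p (POmega F ⇑Q) := by
  classical
  have hfin := finite_pomega (Q := Q)
  have hfr : Module.finrank F (ι → F) = Fintype.card ι := Module.finrank_fintype_fun_eq_card F
  have hc := finrank_Comp h
  have hG' : Good (restr Q α β) := good_of_finite (nondeg_restr hG.nondeg h) (by omega)
  obtain ⟨e, he⟩ : ∃ e, e = compEmb hG.nondeg h := ⟨_, rfl⟩
  have hej : ∀ w : Comp α β, e.j w = (w : ι → F) := fun w => by rw [he]; rfl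
  have hxπ : e.π x = 0 := by
    rw [he]
    exact compEmb_π_eq_zero hG.nondeg h fun w hw1 hw2 => by rw [polar_comm]; exact h.px w hw1 hw2
  have hx0 : x ≠ 0 := by
    rintro rfl
    have := h.ax
    rw [map_zero] at this
    exact zero_ne_one this
  -- the component
  have hinj : Function.Injective ((toPOmega hG).comp e.extE) := by
    rw [injective_iff_map_eq_one]
    intro g hg
    obtain ⟨c, -, hc⟩ := scalar_of_ker hG (g := e.extE g) hg
    have h2 : e.ext g.1 x = c • x := hc x
    rw [e.ext_of_π_eq_zero _ hxπ] at h2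
    have h3 : c = 1 := by
      have h4 : (1 - c) • x = 0 := by rw [sub_smul, one_smul, ← h2, sub_self]
      exact (sub_eq_zero.1 ((smul_eq_zero.1 h4).resolve_right hx0)).symm
    apply e.extE_injective
    apply Subtype.ext
    rw [map_one]
    ext1 w
    have h6 : (e.extE g : (ι → F) ≃ₗ[F] (ι → F)) w = c • w := hc w
    rw [h6, h3, one_smul]
    rfl
  set K : Subgroup (POmega F ⇑Q) := ((toPOmega hG).comp e.extE).range with hK
  have iso : ↥(E (restr Q α β)) ≃* ↥K := MonoidHom.ofInjective hinj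
  have hfinE : Finite ↥(E (restr Q α β)) := Finite.of_equiv _ iso.symm.toEquiv
  -- `t` commutes with `E` of the complement
  have hcomm : ∀ k : E (restr Q α β), t * e.extE k = e.extE k * t := by
    intro k
    apply Subtype.ext
    ext1 v
    show t.1 (e.ext k.1 v) = e.ext k.1 (t.1 v)
    rw [e.ext_apply, e.ext_apply, map_add]
    have e1 : t.1 (e.j (k.1 (e.π v) - e.π v)) = e.j (k.1 (e.π v) - e.π v) := by
      rw [hej]
      obtain ⟨m1, m2⟩ := mem_Comp.1 (k.1 (e.π v) - e.π v).2
      exact hfix _ m1 m2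
    have hg : ∀ v, t.1 (e.j (e.π v)) = e.j (e.π (t.1 v)) := by
      rw [he]
      refine comm_proj hG.nondeg h (E_le_O t.2) (fun w a b => ?_) (fun w a b => ?_)
      · rw [hfix w a b]
        exact ⟨a, b⟩
      · have : t.1.symm w = w := by
          conv_lhs => rw [← hfix w a b]
          rw [LinearEquiv.symm_apply_apply]
        rw [this]
        exact ⟨a, b⟩
    have e2 : e.π (t.1 v) = e.π v := by
      apply e.j_injective
      rw [← hg, hej]
      obtain ⟨m1, m2⟩ := mem_Comp.1 (e.π v).2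
      exact hfix _ m1 m2
    rw [e1, e2]
  -- the centralizer
  have hcent : ∀ g : E Q, toPOmega hG g * toPOmega hG t = toPOmega hG t * toPOmega hG g → g * t = t * g := by
    intro g hgt
    have h1 : toPOmega hG (g * t * g⁻¹ * t⁻¹) = 1 := by
      rw [map_mul, map_mul, map_mul, map_inv, map_inv, hgt]
      group
    obtain ⟨c, hc, hcv⟩ := scalar_of_ker hG h1
    have h3 : ∀ v, (g * t * g⁻¹).1 v = c • t.1 v := by
      intro v
      rw [← hcv (t.1 v)]
      show _ = ((g * t * g⁻¹ * t⁻¹ * t : E Q) : (ι → F) ≃ₗ[F] (ι → F)) v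
      rw [inv_mul_cancel_right]
    have h4 : ∀ (n : ℕ) v, ((g * t * g⁻¹) ^ n).1 v = c ^ n • (t ^ n).1 v := by
      intro n
      induction n with
      | zero => intro v; simp
      | succ n ih =>
        intro v
        rw [pow_succ, pow_succ, pow_succ]
        show ((g * t * g⁻¹) ^ n).1 ((g * t * g⁻¹).1 v) = (c ^ n * c) • (t ^ n).1 (t.1 v)
        rw [ih, h3, map_smul, smul_smul]
    have h5 : (g * t * g⁻¹) ^ p = 1 := by rw [conj_pow, htp]; group
    have h6 : x = c ^ p • x := by
      have := h4 p x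
      rw [h5, htp] at this
      exact this
    have h7 : c ^ p = 1 := by
      have h8 : (1 - c ^ p) • x = 0 := by rw [sub_smul, one_smul, ← h6, sub_self]
      exact (sub_eq_zero.1 ((smul_eq_zero.1 h8).resolve_right hx0)).symm
    have h8 : c = 1 := by
      rcases hc with h | h
      · exact h
      · rw [h, Odd.neg_one_pow (hp.out.odd_of_ne_two h2)] at h7
        rw [h]
        exact h7
    have h9 : g * t * g⁻¹ = t := by
      apply Subtype.ext
      ext1 v
      rw [h3, h8, one_smul]
    calc g * t = g * t * g⁻¹ * g := by group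
      _ = t * g := by rw [h9]
  have htK : ∀ k : K, toPOmega hG t * k = k * toPOmega hG t := by
    rintro ⟨_, k, rfl⟩
    show toPOmega hG t * toPOmega hG (e.extE k) = toPOmega hG (e.extE k) * toPOmega hG t
    rw [← map_mul, hcomm, map_mul]
  have htne : toPOmega hG t ≠ 1 := by
    intro h1
    obtain ⟨c, hc, hcv⟩ := scalar_of_ker hG h1
    have h3 : 0 < Module.finrank F (Comp α β) := by omega
    have : Nontrivial (Comp α β) := Module.finrank_pos_iff.1 h3
    obtain ⟨w, hw⟩ := exists_ne (0 : Comp α β)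
    obtain ⟨m1, m2⟩ := mem_Comp.1 w.2
    have h4 : (w : ι → F) = c • (w : ι → F) := by rw [← hcv, hfix _ m1 m2]
    have h5 : c = 1 := by
      have h6 : (1 - c) • (w : ι → F) = 0 := by rw [sub_smul, one_smul, ← h4, sub_self]
      exact (sub_eq_zero.1 ((smul_eq_zero.1 h6).resolve_right fun h => hw (Subtype.ext h))).symm
    have h6 := (hfree x (by rw [hcv, h5, one_smul])).1
    rw [h.ax] at h6
    exact one_ne_zero h6
  -- the order
  have hsim : IsSimpleGroup (POmega F ⇑Q) := isSimpleGroup_POmega_of_good hG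
  have hnaE := not_comm_quot (commutator_E hG') (good_isSimpleGroup hG')
  have hna : ¬ IsMulCommutative (POmega F ⇑Q) := by
    intro hcom
    apply hnaE
    refine ⟨⟨fun a b => ?_⟩⟩
    obtain ⟨a, rfl⟩ := QuotientGroup.mk_surjective a
    obtain ⟨b, rfl⟩ := QuotientGroup.mk_surjective b
    rw [← QuotientGroup.mk_mul, ← QuotientGroup.mk_mul]
    congr 1
    apply hinj
    rw [map_mul, map_mul]
    exact hcom.is_comm.comm _ _
  have hlt : Nat.card (E (restr Q α β) ⧸ Subgroup.center (E (restr Q α β))) < Nat.card (POmega F ⇑Q) := by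
    have h3 : Nat.card (E (restr Q α β) ⧸ Subgroup.center (E (restr Q α β))) ≤ Nat.card (E (restr Q α β)) :=
      Nat.card_le_card_of_surjective _ (QuotientGroup.mk_surjective)
    refine h3.trans_lt ?_
    rw [Nat.card_congr iso.toEquiv]
    refine lt_of_le_of_ne (Subgroup.card_le_card_group K) fun h4 => ?_
    have h5 : K = ⊤ := Subgroup.eq_top_of_card_eq K h4
    have h6 : toPOmega hG t ∈ Subgroup.center (POmega F ⇑Q) := by
      rw [Subgroup.mem_center_iff]
      intro k
      exact (htK ⟨k, by rw [h5]; exact Subgroup.mem_top k⟩).symm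
    have h7 : Subgroup.center (POmega F ⇑Q) = ⊤ := by
      rcases hsim.eq_bot_or_eq_top_of_normal (Subgroup.center (POmega F ⇑Q)) inferInstance with h | h
      · rw [h, Subgroup.mem_bot] at h6
        exact absurd h6 htne
      · exact h
    apply hna
    refine ⟨⟨fun a b => ?_⟩⟩
    exact (Subgroup.mem_center_iff.1 (by rw [h7]; exact Subgroup.mem_top b : b ∈ Subgroup.center (POmega F ⇑Q)) a)
  have hNB : NB p (E (restr Q α β) ⧸ Subgroup.center (E (restr Q α β))) := by
    have := good_isSimpleGroup hG'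
    exact ih.use hnaE hlt
  have hNBE : NB p (E (restr Q α β)) :=
    NB.of_surjective (QuotientGroup.mk' _) (QuotientGroup.mk'_surjective _) (by rw [QuotientGroup.ker_mk']) hNB
  -- conclusion
  have hcc : Subgroup.centralizer ((Subgroup.zpowers (toPOmega hG t) : Subgroup _) : Set (POmega F ⇑Q)) =
      Subgroup.centralizer ({toPOmega hG t} : Set _) := by
    rw [Subgroup.zpowers_eq_closure]
    exact Subgroup.centralizer_closure _
  refine NB.of_simple_le (Subgroup.zpowers (toPOmega hG t)) ?_ K ?_ ?_ (NB.iso iso hNBE)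
  · rintro ⟨z, hz⟩
    obtain ⟨i, rfl⟩ := Subgroup.mem_zpowers_iff.1 hz
    refine ⟨1, Subtype.ext ?_⟩
    show (toPOmega hG t ^ i) ^ p ^ 1 = 1
    rw [pow_one, ← zpow_natCast, ← zpow_mul, mul_comm, zpow_mul, zpow_natCast, ← map_pow, htp, map_one, one_zpow]
  · rw [hcc]
    intro k hk
    rw [Subgroup.mem_centralizer_singleton_iff]
    exact (htK ⟨k, hk⟩).symm
  · rw [hcc]
    intro g hg
    obtain ⟨g, rfl⟩ := toPOmega_surjective hG g
    rw [Subgroup.mem_centralizer_singleton_iff] at hg
    have hgt := hcent g hg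
    rintro _ ⟨k, rfl⟩
    have hpres : ∀ (g : E Q), g * t = t * g → ∀ w, α w = 0 → β w = 0 → α (g.1 w) = 0 ∧ β (g.1 w) = 0 := by
      intro g hgt w hw1 hw2
      apply hfree
      have h1 : t.1 (g.1 w) = g.1 (t.1 w) := by
        show (t * g).1 w = (g * t).1 w
        rw [hgt]
      rw [h1, hfix w hw1 hw2]
    have hgt' : g⁻¹ * t = t * g⁻¹ := by
      have h1 : g⁻¹ * (g * t) * g⁻¹ = g⁻¹ * (t * g) * g⁻¹ := by rw [hgt]
      calc g⁻¹ * t = g⁻¹ * (t * g) * g⁻¹ := by group
        _ = g⁻¹ * (g * t) * g⁻¹ := h1.symm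
        _ = t * g⁻¹ := by group
    have hproj : ∀ v, g.1 (e.j (e.π v)) = e.j (e.π (g.1 v)) := by
      rw [he]
      exact comm_proj hG.nondeg h (E_le_O g.2) (hpres g hgt) (hpres g⁻¹ hgt')
    obtain ⟨g', hg', k1, k2⟩ := e.exists_restrict (E_le_O g.2) hproj
    refine ⟨⟨g' * k.1 * g'⁻¹, conj_mem_E hg' k.2⟩, ?_⟩
    show toPOmega hG (e.extE _) = toPOmega hG g * toPOmega hG (e.extE k) * (toPOmega hG g)⁻¹
    rw [← map_mul, ← map_inv, ← map_mul]
    congr 1
    exact Subtype.ext (e.conj_ext k1 k2 k.1).symm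

end Main

end Cfsg.Agent.H107.NB.OrthTor
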